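import Groth.Agent.LocCohLib.Restrict
import Groth.Prelude.Def_EtDual

/-!
Restriction of `μ_n` and of tensor products along an étale morphism.
-/

universe u

open CategoryTheory CategoryTheory.Limits AlgebraicGeometry Opposite

namespace Groth.Agent.TateLocal

set_option backward.isDefEq.respectTransparency false
set_option backward.isDefEq.respectTransparency.types false

open Groth.Agent.EtFound

variable {X' X : Scheme.{u}} (π : X' ⟶ X) [hπ : AlgebraicGeometry.Etale π]

/-- `compEtale π` is cocontinuous. -/
theorem isCocontinuous_compEtale :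
    (EtShriek.compEtale π).IsCocontinuous X'.smallEtaleTopology X.smallEtaleTopology := by
  constructor
  intro V S hS
  have eU : X'.smallEtaleTopology =
      (X'.smallPretopology (P := EtCoh.etaleMP) (Q := EtCoh.etaleMP)).toGrothendieck :=
    Scheme.smallGrothendieckTopology_eq_toGrothendieck_smallPretopology X' le_rfl
  have eX : X.smallEtaleTopology =
      (X.smallPretopology (P := EtCoh.etaleMP) (Q := EtCoh.etaleMP)).toGrothendieck :=
    Scheme.smallGrothendieckTopology_eq_toGrothendieck_smallPretopology X le_rfl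
  rw [eX] at hS
  replace hS := (Scheme.mem_toGrothendieck_smallPretopology _ _).1 hS
  rw [eU]
  refine (Scheme.mem_toGrothendieck_smallPretopology V _).2 fun x => ?_
  obtain ⟨W, g, w, hg, hP, hw⟩ := hS x
  let W' := EtShriek.compEtaleLift π g
  let g' : W'.1 ⟶ V := MorphismProperty.Over.homMk (g.left : W.left ⟶ V.left) rfl trivial
  refine ⟨W'.1, g', w, ?_, hP, hw⟩
  show S.arrows ((EtShriek.compEtale π).map g')
  have : (EtShriek.compEtale π).map g' = W'.2.hom ≫ g :=
    MorphismProperty.Over.Hom.ext (Category.id_comp _).symm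
  rw [this]
  exact S.downward_closed hg _

/-- `G_m` restricts to `G_m`. -/
noncomputable def restrGmIso [EtShriek.JCont π] : (EtShriek.restrAlong π).obj (EtCoh.Gm X) ≅ EtCoh.Gm X' :=
  (fullyFaithfulSheafToPresheaf _ _).preimageIso
    (NatIso.ofComponents (fun _ => Iso.refl _) (fun _ => by rfl))

theorem nonempty_pull_mu (n : ℕ) : Nonempty ((EtCoh.pull π).obj (EtCoh.mu X n) ≅ EtCoh.mu X' n) := by
  haveI := jCont π
  haveI := pull_preservesFiniteLimits π
  haveI := LocCohLib.pull_additive π
  let e := (LocCohLib.restrIsoPull' π).symm.app (EtCoh.Gm X) ≪≫ restrGmIso π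
  have w : (EtCoh.pull π).map (EtCoh.powMap X n) ≫ e.hom = e.hom ≫ EtCoh.powMap X' n := by
    rw [EtCoh.powMap, EtCoh.powMap, Functor.map_nsmul, CategoryTheory.Functor.map_id, Preadditive.nsmul_comp,
      Preadditive.comp_nsmul, Category.id_comp, Category.comp_id]
  exact ⟨PreservesKernel.iso (EtCoh.pull π) (EtCoh.powMap X n) ≪≫ kernel.mapIso _ _ e e w⟩

/-- Functoriality of the tensor product of abelian sheaves in isomorphisms. -/
noncomputable def tensorIso {F F' G G' : EtCoh.Ab X} (e : F ≅ F') (e' : G ≅ G') :
    EtDual.tensorAb F G ≅ EtDual.tensorAb F' G' :=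
  (presheafToSheaf _ _).mapIso <|
    let a := (sheafToPresheaf _ _).mapIso e
    let b := (sheafToPresheaf _ _).mapIso e'
    NatIso.ofComponents
      (fun U => (TensorProduct.congr (a.app U).addCommGroupIsoToAddEquiv.toIntLinearEquiv
        (b.app U).addCommGroupIsoToAddEquiv.toIntLinearEquiv).toAddEquiv.toAddCommGrpIso)
      (fun {U V} f => AddCommGrpCat.hom_ext (AddMonoidHom.ext fun x => by
        induction x using TensorProduct.induction_on with
        | zero => simp
        | add x y hx hy => simp only [map_add, hx, hy]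
        | tmul s t =>
          show (a.hom.app V).hom (F.obj.map f s) ⊗ₜ[ℤ] (b.hom.app V).hom (G.obj.map f t) =
            F'.obj.map f ((a.hom.app U).hom s) ⊗ₜ[ℤ] G'.obj.map f ((b.hom.app U).hom t)
          congr 1
          · exact ConcreteCategory.congr_hom (a.hom.naturality f) s
          · exact ConcreteCategory.congr_hom (b.hom.naturality f) t))

theorem nonempty_pull_tensor (F G : EtCoh.Ab X) :
    Nonempty ((EtCoh.pull π).obj (EtDual.tensorAb F G) ≅
      EtDual.tensorAb ((EtCoh.pull π).obj F) ((EtCoh.pull π).obj G)) := by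
  haveI := jCont π
  haveI := isCocontinuous_compEtale π
  let θ := LocCohLib.restrIsoPull' π
  let c := ((EtShriek.compEtale π).pushforwardContinuousSheafificationCompatibility AddCommGrpCat.{u + 1}
    X'.smallEtaleTopology X.smallEtaleTopology).app (EtDual.tensorPre F G)
  let d : (EtShriek.compEtale π).op ⋙ EtDual.tensorPre F G ≅
      EtDual.tensorPre ((EtShriek.restrAlong π).obj F) ((EtShriek.restrAlong π).obj G) :=
    NatIso.ofComponents (fun _ => Iso.refl _) (fun _ => by rfl)
  exact ⟨θ.symm.app _ ≪≫ c.symm ≪≫ (presheafToSheaf _ _).mapIso d ≪≫ tensorIso (θ.app F) (θ.app G)⟩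

end Groth.Agent.TateLocal
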