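import Groth.Agent.AzumayaX.SepElement
import Mathlib.RingTheory.Polynomial.Cyclotomic.Roots
import Mathlib.AlgebraicGeometry.Morphisms.Etale
import Mathlib.AlgebraicGeometry.GammaSpecAdjunction
import Mathlib.RingTheory.Spectrum.Prime.Topology
import Mathlib.FieldTheory.IsAlgClosed.AlgebraicClosure
import Mathlib.RingTheory.LocalRing.ResidueField.Ideal

/-!
An étale surjective cover over which the cyclotomic polynomial has a root.
-/

universe u

open CategoryTheory CategoryTheory.Limits AlgebraicGeometry Polynomial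

namespace Groth.Agent.TateLocal

variable {A : Type u} [CommRing A]

theorem cyclotomic_separable {n : ℕ} (hn : 0 < n) (hu : IsUnit (n : A)) : (cyclotomic n A).Separable := by
  obtain ⟨v, hv⟩ := hu.exists_left_inv
  have h : ((X : A[X]) ^ n - 1).Separable := by
    refine ⟨-1, C v * X, ?_⟩
    have hd : derivative ((X : A[X]) ^ n - 1) = C (n : A) * X ^ (n - 1) := by
      rw [derivative_sub, derivative_one, sub_zero, derivative_X_pow]
    rw [hd]
    calc -1 * ((X : A[X]) ^ n - 1) + C v * X * (C (n : A) * X ^ (n - 1))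
        = 1 - X ^ n + C (v * n) * (X * X ^ (n - 1)) := by rw [C_mul]; ring
      _ = 1 := by rw [hv, C_1, one_mul, mul_pow_sub_one hn.ne']; ring
  exact h.of_dvd (cyclotomic.dvd_X_pow_sub_one n A)

theorem exists_cover_root (S : Scheme.{u}) {n : ℕ} (hn : 0 < n) (hu : IsUnit (n : Γ(S, ⊤))) :
    ∃ (S' : Scheme.{u}) (π : S' ⟶ S) (_ : AlgebraicGeometry.Etale π) (_ : Surjective π) (ζ : Γ(S', ⊤)),
      IsUnit (n : Γ(S', ⊤)) ∧ aeval ζ (cyclotomic n ℤ) = 0 := by
  let A : Type u := Γ(S, ⊤)
  let Φ : A[X] := cyclotomic n A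
  let R : Type u := AdjoinRoot Φ
  haveI : Algebra.Etale A R :=
    AzumayaX.etale_adjoinRoot (cyclotomic.monic n A) (cyclotomic_separable hn hu)
  haveI : Module.Finite A R := (cyclotomic.monic n A).finite_adjoinRoot
  let q : Spec (CommRingCat.of R) ⟶ Spec Γ(S, ⊤) := Spec.map (CommRingCat.ofHom (algebraMap A R))
  haveI : AlgebraicGeometry.Etale q := by
    rw [HasRingHomProperty.Spec_iff (P := @AlgebraicGeometry.Etale), CommRingCat.hom_ofHom]
    exact RingHom.etale_algebraMap.2 inferInstance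
  haveI : Surjective q := ⟨fun p => by
    let p' : PrimeSpectrum A := p
    haveI : Nontrivial A :=
      ⟨⟨0, 1, fun h => p'.isPrime.ne_top ((Ideal.eq_top_iff_one _).2 (h ▸ p'.asIdeal.zero_mem))⟩⟩
    let Ω := AlgebraicClosure p'.asIdeal.ResidueField
    let σ : A →+* Ω := (algebraMap p'.asIdeal.ResidueField Ω).comp (algebraMap A p'.asIdeal.ResidueField)
    obtain ⟨z, hz⟩ := IsAlgClosed.exists_root (Φ.map σ) (by
      rw [(cyclotomic.monic n A).degree_map, degree_cyclotomic]
      exact_mod_cast (Nat.totient_pos.2 hn).ne')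
    let ρ : R →+* Ω := AdjoinRoot.lift σ z ((eval_map σ z).symm.trans hz)
    refine ⟨(PrimeSpectrum.comap ρ ⊥ : PrimeSpectrum R), ?_⟩
    show PrimeSpectrum.comap (algebraMap A R) (PrimeSpectrum.comap ρ ⊥) = p'
    rw [← PrimeSpectrum.comap_comp_apply, AdjoinRoot.algebraMap_eq, AdjoinRoot.lift_comp_of]
    refine PrimeSpectrum.ext ?_
    ext a
    simp [σ, Ideal.algebraMap_residueField_eq_zero]⟩
  refine ⟨pullback S.toSpecΓ q, pullback.fst _ _, inferInstance, inferInstance,
    (pullback.snd S.toSpecΓ q).appTop ((Scheme.ΓSpecIso (CommRingCat.of R)).inv (AdjoinRoot.root Φ)), ?_, ?_⟩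
  · have := hu.map (pullback.fst S.toSpecΓ q).appTop.hom
    rwa [map_natCast] at this
  · let ψ : R →+* Γ(pullback S.toSpecΓ q, ⊤) :=
      (pullback.snd S.toSpecΓ q).appTop.hom.comp (Scheme.ΓSpecIso (CommRingCat.of R)).inv.hom
    show aeval (ψ.toIntAlgHom (AdjoinRoot.root Φ)) (cyclotomic n ℤ) = 0
    rw [aeval_algHom_apply]
    have : aeval (AdjoinRoot.root Φ) (cyclotomic n ℤ) = 0 := by
      rw [← aeval_map_algebraMap A]
      simp [Φ, map_cyclotomic, AdjoinRoot.aeval_eq]
    rw [this, map_zero]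

end Groth.Agent.TateLocal
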