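import Groth.Prelude.Def_EtDual
import Groth.Prelude.Def_EtCore
import Groth.Agent.EtFound.ConstStalk
import Groth.Agent.EtFound.Detect
import Mathlib.Algebra.Ring.ULift

/-!
`ℤ/n ⊗ ℤ/n ≅ ℤ/n` for constant étale sheaves.
-/

universe u

open CategoryTheory CategoryTheory.Limits AlgebraicGeometry Opposite

namespace Groth.Agent.TateLocal

set_option backward.isDefEq.respectTransparency false
set_option backward.isDefEq.respectTransparency.types false

open Groth.Agent.EtFound
open scoped TensorProduct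

variable (X : Scheme.{u}) (n : ℕ)

/-- The constant presheaf `ℤ/n`. -/
noncomputable abbrev cP : X.Etaleᵒᵖ ⥤ AddCommGrpCat.{u + 1} :=
  (Functor.const X.Etaleᵒᵖ).obj (AddCommGrpCat.of (ULift.{u + 1} (ZMod n)))

/-- Sections of constants. -/
noncomputable abbrev η (U : X.Etaleᵒᵖ) : ULift.{u + 1} (ZMod n) →+ (EtCoh.const X (ZMod n)).obj.obj U :=
  ((toSheafify X.smallEtaleTopology (cP X n)).app U).hom

theorem η_map {U V : X.Etaleᵒᵖ} (f : U ⟶ V) (m : ULift.{u + 1} (ZMod n)) :
    (EtCoh.const X (ZMod n)).obj.map f (η X n U m) = η X n V m :=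
  (NatTrans.naturality_apply (toSheafify X.smallEtaleTopology (cP X n)) f m).symm

/-- `m ↦ m ⊗ 1`. -/
noncomputable def toTensorPre : cP X n ⟶ EtDual.tensorPre (EtCoh.const X (ZMod n)) (EtCoh.const X (ZMod n)) where
  app U := AddCommGrpCat.ofHom (AddMonoidHom.mk' (fun m => η X n U m ⊗ₜ[ℤ] η X n U 1) fun a b => by
    rw [map_add, TensorProduct.add_tmul])
  naturality U V f := AddCommGrpCat.hom_ext (AddMonoidHom.ext fun m => by
    show η X n V m ⊗ₜ[ℤ] η X n V 1 =
      (EtCoh.const X (ZMod n)).obj.map f (η X n U m) ⊗ₜ[ℤ] (EtCoh.const X (ZMod n)).obj.map f (η X n U 1)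
    rw [η_map, η_map])

/-- `ℤ/n → ℤ/n ⊗ ℤ/n`. -/
noncomputable def toTensor : EtCoh.const X (ZMod n) ⟶
    EtDual.tensorAb (EtCoh.const X (ZMod n)) (EtCoh.const X (ZMod n)) :=
  ⟨sheafifyLift _ (toTensorPre X n ≫ toSheafify _ _) (EtDual.tensorAb _ _).property⟩

theorem η_mul (U : X.Etaleᵒᵖ) (m k : ULift.{u + 1} (ZMod n)) :
    η X n U m ⊗ₜ[ℤ] η X n U k = η X n U (m * k) ⊗ₜ[ℤ] η X n U 1 := by
  obtain ⟨a, ha⟩ := ZMod.intCast_surjective k.down
  have hk : k = a • (1 : ULift.{u + 1} (ZMod n)) := ULift.ext _ _ (by simp [ha])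
  rw [hk, map_zsmul, TensorProduct.tmul_smul, mul_smul_comm, mul_one, map_zsmul]
  exact TensorProduct.smul_tmul' a _ _

variable {Ω : Type u} [Field Ω] [IsSepClosed Ω] (ξ : Spec (CommRingCat.of Ω) ⟶ X)

theorem exists_germ_eq (U : X.Etale) (u : (Scheme.pointSmallEtale ξ).fiber.obj U)
    (s : (EtCoh.const X (ZMod n)).obj.obj (op U)) :
    ∃ (m : ULift.{u + 1} (ZMod n)) (V : X.Etale) (f : V ⟶ U) (v : (Scheme.pointSmallEtale ξ).fiber.obj V),
      (Scheme.pointSmallEtale ξ).fiber.map f v = u ∧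
      (EtCoh.const X (ZMod n)).obj.map f.op s = η X n (op V) m := by
  obtain ⟨m, hm⟩ := (toSheafify_const_germ_bijective ξ AddCommGrpCat.{u + 1}
    (AddCommGrpCat.of (ULift.{u + 1} (ZMod n))) U u).2
    ((Scheme.pointSmallEtale ξ).toPresheafFiber U u (EtCoh.const X (ZMod n)).obj s)
  obtain ⟨V, f, v, hv, hf⟩ := ((Scheme.pointSmallEtale ξ).toPresheafFiber_eq_iff' _ _ _ _).1 hm.symm
  exact ⟨m, V, f, v, hv, hf.trans (η_map X n f.op m)⟩

theorem surjective_fiber : Function.Surjective ((Scheme.pointSmallEtale ξ).presheafFiber.map (toTensorPre X n)) := by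
  intro q
  obtain ⟨U, u, x, rfl⟩ := (Scheme.pointSmallEtale ξ).toPresheafFiber_jointly_surjective q
  induction x using TensorProduct.induction_on with
  | zero => exact ⟨0, by rw [map_zero, map_zero]⟩
  | add x y hx hy =>
    obtain ⟨p, hp⟩ := hx
    obtain ⟨p', hp'⟩ := hy
    exact ⟨p + p', by rw [map_add, map_add, hp, hp']⟩
  | tmul s t =>
    obtain ⟨m, V, f, v, rfl, hf⟩ := exists_germ_eq X n ξ U u s
    obtain ⟨k, W, g, w, rfl, hg⟩ := exists_germ_eq X n ξ V v ((EtCoh.const X (ZMod n)).obj.map f.op t)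
    refine ⟨(Scheme.pointSmallEtale ξ).toPresheafFiber W w (cP X n) (m * k), ?_⟩
    erw [(Scheme.pointSmallEtale ξ).toPresheafFiber_naturality_apply]
    rw [← (Scheme.pointSmallEtale ξ).toPresheafFiber_w_apply f, ← (Scheme.pointSmallEtale ξ).toPresheafFiber_w_apply g]
    refine congrArg _ ?_
    show η X n (op W) (m * k) ⊗ₜ[ℤ] η X n (op W) 1 =
      (EtCoh.const X (ZMod n)).obj.map g.op ((EtCoh.const X (ZMod n)).obj.map f.op s) ⊗ₜ[ℤ]
        (EtCoh.const X (ZMod n)).obj.map g.op ((EtCoh.const X (ZMod n)).obj.map f.op t)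
    rw [hf, hg, η_map, ← η_mul]

theorem exists_val : ∃ val : ∀ (U : X.Etale) (_ : (Scheme.pointSmallEtale ξ).fiber.obj U),
      (EtCoh.const X (ZMod n)).obj.obj (op U) →+ ULift.{u + 1} (ZMod n),
    (∀ U u m, val U u (η X n (op U) m) = m) ∧
    ∀ {U V : X.Etale} (f : V ⟶ U) (v : (Scheme.pointSmallEtale ξ).fiber.obj V) (s),
      val V v ((EtCoh.const X (ZMod n)).obj.map f.op s) = val U ((Scheme.pointSmallEtale ξ).fiber.map f v) s := by
  let P := Scheme.pointSmallEtale ξ
  let F := (EtCoh.const X (ZMod n)).obj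
  obtain ⟨V₀, v₀, -⟩ : ∃ (V₀ : X.Etale) (_ : P.fiber.obj V₀), True :=
    ⟨EtCoh.top X, CategoryTheory.Over.homMk ξ (Category.comp_id _), trivial⟩
  let g : ULift.{u + 1} (ZMod n) →+ ToType (P.presheafFiber.obj F) :=
    (P.toPresheafFiber V₀ v₀ F).hom.comp (η X n (op V₀))
  have hg : Function.Bijective g := toSheafify_const_germ_bijective ξ AddCommGrpCat.{u + 1}
    (AddCommGrpCat.of (ULift.{u + 1} (ZMod n))) V₀ v₀
  let e := AddEquiv.ofBijective g hg
  refine ⟨fun U u => e.symm.toAddMonoidHom.comp (P.toPresheafFiber U u F).hom, fun U u m => ?_, fun f v s => ?_⟩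
  · show e.symm (P.toPresheafFiber U u F (η X n (op U) m)) = m
    refine (AddEquiv.symm_apply_eq _).2 ?_
    obtain ⟨⟨T, t⟩, ⟨a, ha⟩, ⟨b, hb⟩, -⟩ := IsCofilteredOrEmpty.cone_objs (P.fiber.elementsMk U u) (P.fiber.elementsMk V₀ v₀)
    obtain ⟨a', rfl⟩ : ∃ a' : T ⟶ U, P.fiber.map a' t = u := ⟨a, ha⟩
    obtain ⟨b', hb'⟩ : ∃ b' : T ⟶ V₀, P.fiber.map b' t = v₀ := ⟨b, hb⟩
    show P.toPresheafFiber U (P.fiber.map a' t) F (η X n (op U) m) = P.toPresheafFiber V₀ v₀ F (η X n (op V₀) m)
    rw [← hb', ← P.toPresheafFiber_w_apply a', ← P.toPresheafFiber_w_apply b']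
    erw [η_map, η_map]
  · exact congrArg e.symm (P.toPresheafFiber_w_apply f v F s)

theorem injective_fiber : Function.Injective ((Scheme.pointSmallEtale ξ).presheafFiber.map (toTensorPre X n)) := by
  obtain ⟨val, hη, hmap⟩ := exists_val X n ξ
  let P := Scheme.pointSmallEtale ξ
  let μ : ∀ (U : X.Etale) (_ : P.fiber.obj U),
      (EtDual.tensorPre (EtCoh.const X (ZMod n)) (EtCoh.const X (ZMod n))).obj (op U) ⟶
        AddCommGrpCat.of (ULift.{u + 1} (ZMod n)) := fun U u => AddCommGrpCat.ofHom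
    (TensorProduct.lift (LinearMap.mk₂ ℤ (fun s t => val U u s * val U u t)
      (fun a b c => by rw [map_add, add_mul]) (fun r a b => by rw [map_zsmul, smul_mul_assoc])
      (fun a b c => by rw [map_add, mul_add]) (fun r a b => by rw [map_zsmul, mul_smul_comm]))).toAddMonoidHom
  let d := P.presheafFiberDesc μ (fun {U V} f v => AddCommGrpCat.hom_ext (AddMonoidHom.ext fun x => by
    induction x using TensorProduct.induction_on with
    | zero => simp
    | add x y hx hy => simp only [map_add, hx, hy]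
    | tmul s t =>
      show val U v ((EtCoh.const X (ZMod n)).obj.map f.op s) * val U v ((EtCoh.const X (ZMod n)).obj.map f.op t) =
        val V (P.fiber.map f v) s * val V (P.fiber.map f v) t
      rw [hmap, hmap]))
  intro p q hpq
  obtain ⟨U, u, a, b, rfl, rfl⟩ := P.toPresheafFiber_jointly_surjective₂ p q
  have hd : ∀ a, d (P.presheafFiber.map (toTensorPre X n) (P.toPresheafFiber U u (cP X n) a)) = a := fun a => by
    erw [P.toPresheafFiber_naturality_apply]
    refine (ConcreteCategory.comp_apply _ _ _).symm.trans ?_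
    refine (ConcreteCategory.congr_hom (P.toPresheafFiber_presheafFiberDesc μ _ U u) _).trans ?_
    show val U u (η X n (op U) a) * val U u (η X n (op U) 1) = a
    rw [hη, hη, mul_one]
  have := congrArg d hpq
  erw [hd, hd] at this
  exact congrArg _ this

/-- `ℤ/n ⊗ ℤ/n ≅ ℤ/n`. -/
theorem nonempty_tensor_const : Nonempty (EtDual.tensorAb (EtCoh.const X (ZMod n)) (EtCoh.const X (ZMod n)) ≅
    EtCoh.const X (ZMod n)) := by
  haveI : IsIso (toTensor X n) := isIso_of_stalks _ fun Ω _ _ ξ => by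
    let P := Scheme.pointSmallEtale ξ
    have h1 : P.presheafFiber.map (toSheafify X.smallEtaleTopology (cP X n)) ≫ P.presheafFiber.map (toTensor X n).hom =
        P.presheafFiber.map (toTensorPre X n) ≫ P.presheafFiber.map (toSheafify X.smallEtaleTopology _) := by
      rw [← Functor.map_comp, ← Functor.map_comp]
      exact congrArg _ (toSheafify_sheafifyLift _ _ _)
    haveI : IsIso (P.presheafFiber.map (toTensorPre X n)) :=
      (ConcreteCategory.isIso_iff_bijective _).2 ⟨injective_fiber X n ξ, surjective_fiber X n ξ⟩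
    haveI : IsIso (P.presheafFiber.map (toSheafify X.smallEtaleTopology (cP X n))) :=
      P.W_isInvertedBy_presheafFiber' _ (GrothendieckTopology.W_toSheafify _ _)
    haveI : IsIso (P.presheafFiber.map (toSheafify X.smallEtaleTopology
        (EtDual.tensorPre (EtCoh.const X (ZMod n)) (EtCoh.const X (ZMod n))))) :=
      P.W_isInvertedBy_presheafFiber' _ (GrothendieckTopology.W_toSheafify _ _)
    exact (ConcreteCategory.isIso_iff_bijective _).1 (IsIso.of_isIso_fac_left h1)
  exact ⟨(asIso (toTensor X n)).symm⟩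

end Groth.Agent.TateLocal
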