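import Groth.Agent.TateLocal.Restrict
import Groth.Agent.TateLocal.Tensor
import Groth.Agent.TateLocal.Cover
import Groth.Agent.EtLC12.MuConst

/-!
Tate twists are étale locally constant; vanishing of local cohomology of Tate twists.
-/

universe u

open CategoryTheory CategoryTheory.Limits AlgebraicGeometry Opposite

namespace Groth.Agent.TateLocal

set_option backward.isDefEq.respectTransparency.types false

open Groth.Agent.EtFound

theorem nonempty_pull_tate {X' X : Scheme.{u}} (π : X' ⟶ X) [AlgebraicGeometry.Etale π] (n : ℕ) :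
    ∀ c : ℕ, Nonempty ((EtCoh.pull π).obj (EtDual.tate X n c) ≅ EtDual.tate X' n c)
  | 0 => ⟨EtCore.pullConst π (ZMod n)⟩
  | c + 1 => by
    obtain ⟨e⟩ := nonempty_pull_tate π n c
    obtain ⟨m⟩ := nonempty_pull_mu π n
    obtain ⟨t⟩ := nonempty_pull_tensor π (EtDual.tate X n c) (EtCoh.mu X n)
    exact ⟨t ≪≫ tensorIso e m⟩

theorem nonempty_tate_iso_const {X : Scheme.{u}} (n : ℕ) [NeZero n] (hu : IsUnit (n : Γ(X, ⊤))) (ζ : Γ(X, ⊤))
    (hζ : Polynomial.aeval ζ (Polynomial.cyclotomic n ℤ) = 0) :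
    ∀ c : ℕ, Nonempty (EtDual.tate X n c ≅ EtCoh.const X (ZMod n))
  | 0 => ⟨Iso.refl _⟩
  | c + 1 => by
    obtain ⟨e⟩ := nonempty_tate_iso_const n hu ζ hζ c
    obtain ⟨m⟩ := EtLC12.MuConst.nonempty_mu_iso_const hu ζ hζ
    obtain ⟨t⟩ := nonempty_tensor_const X n
    exact ⟨tensorIso e m ≪≫ t⟩

theorem isZero_of_isEmpty {X : Scheme.{u}} [hX : IsEmpty X] (F : EtCoh.Ab X) : IsZero F :=
  (isZero_iff_stalks F).2 fun _ _ _ ξ => (hX.false (ξ.base default)).elim

theorem isEmpty_of_isUnit_zero {X : Scheme.{u}} (h : IsUnit ((0 : ℕ) : Γ(X, ⊤))) : IsEmpty X := by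
  rw [Nat.cast_zero] at h
  haveI : Subsingleton Γ(X, ⊤) := subsingleton_of_zero_eq_one (isUnit_zero_iff.1 h)
  exact ⟨fun x => (IsEmpty.false (show PrimeSpectrum Γ(X, ⊤) from X.toSpecΓ x))⟩

/-- Local cohomology of a Tate twist vanishes where that of `ℤ/n` does. -/
theorem isZero_locCoh_tate {X U : Scheme.{u}} (j : U ⟶ X) [IsOpenImmersion j] [EtCoh.BCCont j] (n : ℕ)
    (hn : IsUnit (n : Γ(X, ⊤))) (c p : ℕ) (h : IsZero ((EtDual.locCoh j p).obj (EtCoh.const X (ZMod n)))) :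
    IsZero ((EtDual.locCoh j p).obj (EtDual.tate X n c)) := by
  rcases Nat.eq_zero_or_pos n with rfl | hpos
  · haveI := isEmpty_of_isUnit_zero hn
    exact isZero_of_isEmpty _
  haveI : NeZero n := ⟨hpos.ne'⟩
  obtain ⟨X', π, _, _, ζ, hu, hζ⟩ := exists_cover_root X hpos hn
  let j' := pullback.fst π j
  have hU : Set.range j'.base = π.base ⁻¹' Set.range j.base := Scheme.Pullback.range_fst π j
  refine LocCohLib.isZero_locCoh_of_pull j π j' hU _ p ?_
  obtain ⟨e₁⟩ := nonempty_pull_tate π n c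
  obtain ⟨e₂⟩ := nonempty_tate_iso_const n hu ζ hζ c
  obtain ⟨e₃⟩ := LocCohLib.pull_locCoh_iso j π j' hU (EtCoh.const X (ZMod n)) p
  have h0 : IsZero ((EtDual.locCoh j' p).obj ((EtCoh.pull π).obj (EtCoh.const X (ZMod n)))) :=
    ((EtCoh.pull π).map_isZero h).of_iso e₃.symm
  exact h0.of_iso ((EtDual.locCoh j' p).mapIso (e₁ ≪≫ e₂ ≪≫ (EtCore.pullConst π (ZMod n)).symm))

end Groth.Agent.TateLocal
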